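import Cfsg.Agent.H501.GLn.FourA
import Cfsg.Agent.H501.GLn.FourB
import Cfsg.Agent.H501.GLn.Reg
import Cfsg.Agent.H614.GLn.GB1
import Cfsg.Agent.H577.GLB.Fam
import Cfsg.Agent.H111.GLExt.Ext
import Cfsg.Agent.H901.Sl.JJ
import Cfsg.Agent.H76.GLB.DE2
import Cfsg.Agent.H117.GLn.LowerSpan
import Cfsg.Agent.S0917
import Cfsg.Agent.H644.Trace

/-!
# S4536 E2: the section of `u = diag(-1, 1)`

* `exists_defect_two` : if the truncated pairing is not zero, a defect group of the block of `χ` contains the direct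
  product of defect groups of the blocks of `χ₁` and `χ₂` (intersected with `SL`);
-/

set_option autoImplicit false
set_option linter.unusedSectionVars false

open Polynomial Cfsg
open scoped ComplexConjugate TensorProduct MatrixGroups

namespace Cfsg.Agent.H501.GLn

open Cfsg.Agent.H614.GLn Cfsg.Agent.H577.GLB.Std
open Cfsg.Agent.H577.GLB.Real (PGen frm coP PhiF cfE Om IsLab slS OnlyOn)
open Cfsg.Agent.H624.Sl (jj jj_mulVec scl prodBlk)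
open Cfsg.Agent.H644 Cfsg.Agent.Blocks.Local Cfsg.Agent.H466.Sl
open Cfsg.Agent.Characters.Core Cfsg.Agent.Blocks.Basic

universe u w

section sec

variable {F : Type u} [Field F] [Finite F] {K : Type w} [Field K] [Algebra F K] {θ : K →*₀ ℂ} {N M : ℕ} [NeZero M]
  {𝔐 : Ideal AlgInt} {k l m n : ℕ}

/-- **the section of `u = diag(-1, 1)`** -/
theorem exists_defect_two (hctx : Ctx F θ N M) (hpF : 2 ≠ ringChar F) (h𝔐 : IsPModular 2 𝔐) (hkl : k + l = n)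
    (hn : n ≤ N) {χ : IrrCharacter (GL (Fin n) F)} {t₀ : LabZ (Nat.card F) M m n} (hχ : IsLab θ M m n χ t₀)
    (hPO : SchP (Nat.card F : ℤ) M t₀.t ∈ PGen (Nat.card F : ℤ) M 2)
    {χ₁ : IrrCharacter (GL (Fin k) F)} {t₁ : LabZ (Nat.card F) M m k} (hχ₁ : IsLab θ M m k χ₁ t₁)
    {χ₂ : IrrCharacter (GL (Fin l) F)} {t₂ : LabZ (Nat.card F) M m l} (hχ₂ : IsLab θ M m l χ₂ t₂)
    (hpair : LinearMap.mul' ℂ ℂ (TensorProduct.map
        (frm (Nat.card F : ℤ) M (SchP (Nat.card F : ℤ) M t₁.t) ∘ₗ (tauP (Nat.card F : ℤ) M 2).toLinearMap ∘ₗ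
          (PhiF (Nat.card F : ℤ) M 1).toLinearMap)
        (frm (Nat.card F : ℤ) M (SchP (Nat.card F : ℤ) M t₂.t) ∘ₗ (tauP (Nat.card F : ℤ) M 2).toLinearMap)
        (coP M (SchP (Nat.card F : ℤ) M t₀.t))) ≠ 0)
    (D : Subgroup (GL (Fin n) F)) (hD : IsDefectGroup 2 𝔐 (blockOf 𝔐 (χ : GL (Fin n) F → ℂ)) D) :
    ∃ (D₁ : Subgroup (GL (Fin k) F)) (D₂ : Subgroup (GL (Fin l) F)),
      IsDefectGroup 2 𝔐 (blockOf 𝔐 (χ₁ : GL (Fin k) F → ℂ)) D₁ ∧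
      IsDefectGroup 2 𝔐 (blockOf 𝔐 (χ₂ : GL (Fin l) F → ℂ)) D₂ ∧
      ∃ f : ((D₁ ⊓ slS F k : Subgroup (GL (Fin k) F)) × (D₂ ⊓ slS F l : Subgroup (GL (Fin l) F))) →*
        (D ⊓ slS F n : Subgroup (GL (Fin n) F)), Function.Injective f := by
  classical
  have hF2 : Fact (Nat.Prime 2) := ⟨Nat.prime_two⟩
  have hK := hctx.finK
  have h𝔐p : 𝔐.IsPrime := isPrime_of_isPModular h𝔐
  -- the linear algebra
  let e : ((Fin k → F) × (Fin l → F)) ≃ₗ[F] (Fin n → F) :=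
    LinearEquiv.ofFinrankEq _ _ (by
      rw [Module.finrank_prod, Module.finrank_fin_fun, Module.finrank_fin_fun, Module.finrank_fin_fun, hkl])
  have h2F : (2 : F) ≠ 0 := by
    intro h
    have h1 : ringChar F ∣ 2 := ringChar.dvd (by exact_mod_cast h)
    rcases (Nat.dvd_prime Nat.prime_two).1 h1 with h3 | h3
    · exact CharP.ringChar_ne_one h3
    · exact hpF h3.symm
  let z : Fˣ := -1
  have hz1 : z ≠ 1 := by
    intro h
    apply h2F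
    have h1 : ((z : Fˣ) : F) = 1 := by rw [h, Units.val_one]
    have h2 : (-1 : F) = 1 := h1
    linear_combination -h2
  have hzz : z ^ 2 = 1 := by
    show (-1 : Fˣ) ^ 2 = 1
    rw [neg_one_sq]
  have hgen : ∀ z : F, Algebra.adjoin F {z} = ⊤ := fun z =>
    Algebra.eq_top_iff.2 fun x => Subalgebra.algebraMap_mem (Algebra.adjoin F {z}) x
  have hinj := H901.Sl.jj_injective (F := F) (K := F) e
  set H : Subgroup (GL (Fin n) F) := (jj (K := F) e).range with hH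
  have hcent : H = Subgroup.centralizer ({jj (K := F) e (scl k z, 1)} : Set (GL (Fin n) F)) :=
    H901.Sl.centralizer_jj (F := F) (K := F) e z hz1 (hgen _)
  have := Fintype.ofFinite H
  -- the product character
  obtain ⟨ψ, hψ⟩ := Cfsg.Agent.H76.GLB.exists_prodChar hinj hH.symm χ₁ χ₂
  obtain ⟨s₀, hs₀⟩ := hχ
  obtain ⟨s₁, hs₁⟩ := hχ₁
  obtain ⟨s₂, hs₂⟩ := hχ₂
  have hk : k ≤ N := by omega
  have hl : l ≤ N := by omega
  have hQ := H421.GLn.isUnit_q hctx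
  have hlev : ∀ g : GL (Fin k) F, ¬ 2 ∣ orderOf g → (orderOf g).Coprime 2 := fun g hg =>
    ((Nat.Prime.coprime_iff_not_dvd Nat.prime_two).2 hg).symm
  -- the pairing
  have hpr := H623.GLn.section_pairing (F := F) (E := F) (p := 2) (f := 1) Nat.prime_two hctx hctx (by rw [pow_one])
    e z ⟨1, orderOf_eq_prime hzz hz1⟩ hz1 hk hl (k := k) (m := l)
    (by
      intro A hA x hx
      have h1 := H111.GLExt.ev_ext (F := F) (E := F) (V := Fin k → F) hctx Nat.prime_two hpF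
        (by rw [Module.finrank_fin_fun]; exact hk) (z : F) 1 (by
          rw [pow_one, ← Units.val_pow_eq_pow_val, hzz, Units.val_one]) (hgen _) (Matrix.toLin' A.1) (orderOf A)
        (hlev A hA) (by
          rw [← Matrix.toLin'_pow, ← Units.val_pow_eq_pow_val, pow_orderOf_eq_one, Units.val_one, Matrix.toLin'_one]
          rfl) hx
      rw [Module.finrank_self] at h1
      rw [H623.GLn.rsM, map_smul]
      exact h1)
    (fun x hx => Om_tauP hctx Nat.prime_two hpF hk hx) (fun x hx => Om_tauP hctx Nat.prime_two hpF hl hx)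
    hPO (H614.GLn.RSt.SchP_mem_Hom hQ t₁) (H614.GLn.RSt.SchP_mem_Hom hQ t₂) hinj hH.symm
    (fun h => (((s₁ : ℤ) : ℂ) * ((s₂ : ℤ) : ℂ)) * (ψ : H → ℂ) h) (by
      intro x h hx
      rw [hψ x h hx, hs₁, hs₂, Pi.smul_apply, Pi.smul_apply, smul_eq_mul, smul_eq_mul]
      ring)
  rw [← hpr] at hpair
  have hne : classInner (pRegularPart 2 (fun c : H => (χ : GL (Fin n) F → ℂ)
      (jj (K := F) e (scl k z, 1) * (c : GL (Fin n) F)))) (ψ : H → ℂ) ≠ 0 := by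
    intro h
    apply hpair
    have h1 : (fun c : H => Om (F := F) θ M n (SchP (Nat.card F : ℤ) M t₀.t) (jj (K := F) e (scl k z, 1) * (c : GL (Fin n) F))) =
        ((s₀ : ℤ) : ℂ) • fun c : H => (χ : GL (Fin n) F → ℂ) (jj (K := F) e (scl k z, 1) * (c : GL (Fin n) F)) := by
      funext c
      rw [hs₀]
      rfl
    have h2 : (fun h : H => (((s₁ : ℤ) : ℂ) * ((s₂ : ℤ) : ℂ)) * (ψ : H → ℂ) h) =
        (((s₁ : ℤ) : ℂ) * ((s₂ : ℤ) : ℂ)) • (ψ : H → ℂ) := rfl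
    rw [h1, h2, ← H646.RegInner.regMap_apply, map_smul, H646.RegInner.regMap_apply, classInner_smul_left,
      classInner_smul_right, h, mul_zero, mul_zero]
  have hord : ∃ i : ℕ, orderOf (jj (K := F) e (scl k z, 1)) = 2 ^ i := by
    have h1 : (jj (K := F) e (scl k z, 1)) ^ 2 = 1 := by
      have h2 : scl k z ^ 2 = 1 := by
        rw [scl, ← map_pow, hzz, map_one]
      rw [← map_pow, Prod.pow_mk, h2, one_pow]
      exact map_one _
    obtain ⟨i, -, hi⟩ := (Nat.dvd_prime_pow Nat.prime_two).1 (show orderOf (jj (K := F) e (scl k z, 1)) ∣ 2 ^ 1 by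
      rw [pow_one]; exact orderOf_dvd_of_pow_eq_one h1)
    exact ⟨i, hi⟩
  have hind := H623.GLn.induced_of_pairing h𝔐 (u := jj (K := F) e (scl k z, 1)) hord hcent
    (isPBlock_blockOf χ) (mem_blockOf_self χ) (isPBlock_blockOf ψ) (mem_blockOf_self ψ) hne
  · -- defect groups
    obtain ⟨D₁, hD₁⟩ := H644.exists_isDefectGroup h𝔐 (isPBlock_blockOf χ₁)
    obtain ⟨D₂, hD₂⟩ := H644.exists_isDefectGroup h𝔐 (isPBlock_blockOf χ₂)
    obtain ⟨D', hD', hj'⟩ := exists_defect_prod' h𝔐 hinj hH.symm D₁ hD₁ D₂ hD₂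
    rw [H76.GLB.prodBlk_blockOf h𝔐 hinj hH.symm χ₁ χ₂ ψ hψ] at hD'
    obtain ⟨E', hE', hle⟩ := Cfsg.Agent.S0917.result 2 𝔐 h𝔐 H _ (isPBlock_blockOf ψ) _ (isPBlock_blockOf χ) hind D' hD'
    obtain ⟨t, ht⟩ := H644.exists_conj_of_isDefectGroup h𝔐 (isPBlock_blockOf χ) hE' hD
    refine ⟨D₁, D₂, hD₁, hD₂, ?_⟩
    let g : ((D₁ ⊓ slS F k : Subgroup (GL (Fin k) F)) × (D₂ ⊓ slS F l : Subgroup (GL (Fin l) F))) →* GL (Fin n) F :=
      (MulAut.conj t).toMonoidHom.comp ((jj (K := F) e).comp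
        ((D₁ ⊓ slS F k : Subgroup (GL (Fin k) F)).subtype.prodMap (D₂ ⊓ slS F l : Subgroup (GL (Fin l) F)).subtype))
    have hg : ∀ x, g x ∈ (D ⊓ slS F n : Subgroup (GL (Fin n) F)) := by
      rintro ⟨⟨a, ha, ha'⟩, ⟨b, hb, hb'⟩⟩
      constructor
      · rw [← ht]
        exact ⟨jj (K := F) e (a, b), hle (hj' a ha b hb), rfl⟩
      · have hnorm : (slS F n).Normal := by unfold slS; infer_instance
        refine hnorm.conj_mem (jj (K := F) e (a, b)) ?_ t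
        show Matrix.GeneralLinearGroup.det (jj (K := F) e (a, b)) = 1
        rw [H901.Sl.det_jj, show Matrix.GeneralLinearGroup.det a = 1 from ha',
          show Matrix.GeneralLinearGroup.det b = 1 from hb', map_one, mul_one]
    refine ⟨g.codRestrict _ hg, ?_⟩
    rintro ⟨a, b⟩ ⟨a', b'⟩ hab
    have h1 : g (a, b) = g (a', b') := congrArg Subtype.val hab
    have h2 := hinj ((MulAut.conj t).injective h1)
    exact Prod.ext (Subtype.ext (congrArg Prod.fst h2)) (Subtype.ext (congrArg Prod.snd h2))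

/-- E2, from the algebra (C2, C3) and E1 -/
theorem four_le_rank_of (hctx : Ctx F θ N M) (hpF : 2 ≠ ringChar F) (h𝔐 : IsPModular 2 𝔐) (hn : n ≤ N)
    (hm : n ≤ m) (t₀ : LabZ (Nat.card F) M m n) (h₀ : POnly M 2 t₀.t) (δ₀ : ZMod M)
    (h₁ : OnlyOn (Nat.card F) M δ₀ t₀.t) (hw : H577.GLB.Std.bsz (t₀.t δ₀) = 4) (χ : IrrCharacter (GL (Fin n) F))
    (hχ : IsLab θ M m n χ t₀) (D : Subgroup (GL (Fin n) F))
    (hD : IsDefectGroup 2 𝔐 (blockOf 𝔐 (χ : GL (Fin n) F → ℂ)) D) (s : ℕ)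
    (hs : SectionalPRankLE 2 s (D ⊓ slS F n : Subgroup (GL (Fin n) F)))
    (hC3 : cfE (Nat.card F : ℤ) M 1 (SchP (Nat.card F : ℤ) M t₀.t)
      (MvPolynomial.X (perZ (Nat.card F : ℤ) M δ₀, canon (Nat.card F : ℤ) M δ₀) ^ 2)
      (MvPolynomial.X (perZ (Nat.card F : ℤ) M δ₀, canon (Nat.card F : ℤ) M δ₀) ^ 2) ≠ 0)
    (hC2b : (MvPolynomial.X (perZ (Nat.card F : ℤ) M δ₀, canon (Nat.card F : ℤ) M δ₀) ^ 2 : RS M) ∈
      Submodule.span ℂ {x : RS M | ∃ t : LabZ (Nat.card F : ℤ) M m (perZ (Nat.card F : ℤ) M δ₀ * 2),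
        OnlyOn (Nat.card F : ℤ) M δ₀ t.t ∧ x = SchP (Nat.card F : ℤ) M t.t})
    (hE1 : ∀ (n' : ℕ), n' ≤ N → n' ≤ m → ∀ (t : LabZ (Nat.card F) M m n'), POnly M 2 t.t →
      OnlyOn (Nat.card F) M δ₀ t.t → H577.GLB.Std.bsz (t.t δ₀) = 2 → ∀ (χ' : IrrCharacter (GL (Fin n') F)),
      IsLab θ M m n' χ' t → ∀ D' : Subgroup (GL (Fin n') F),
      IsDefectGroup 2 𝔐 (blockOf 𝔐 (χ' : GL (Fin n') F → ℂ)) D' →
      ¬ IsCyclic (D' ⊓ slS F n' : Subgroup (GL (Fin n') F))) : 4 ≤ s := by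
  classical
  have hF2 : Fact (Nat.Prime 2) := ⟨Nat.prime_two⟩
  have hQ := H421.GLn.isUnit_q hctx
  -- `q` is odd
  have hQ2 : ((Nat.card F : ℤ) : ZMod 2) = 1 := by
    have := Fintype.ofFinite F
    have h2 := FiniteField.odd_card_of_char_ne_two (F := F) hpF.symm
    rw [Nat.card_eq_fintype_card, Int.cast_natCast, ← ZMod.natCast_mod, h2, Nat.cast_one]
  -- the degree
  have hper : 0 < perZ (Nat.card F : ℤ) M δ₀ := H614.GLn.RSt.perZ_pos hQ δ₀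
  have hdeg : ∀ {n' : ℕ} (hm' : n' ≤ m) (t : LabZ (Nat.card F : ℤ) M m n'), POnly M 2 t.t → OnlyOn (Nat.card F : ℤ) M δ₀ t.t →
      n' = perZ (Nat.card F : ℤ) M δ₀ * H577.GLB.Std.bsz (t.t δ₀) := fun hm' t ht ht' =>
    (H76.GLB.card_family_one Nat.prime_two hQ hQ2 hm' t ht δ₀ ht').2.1
  have hn4 := hdeg hm t₀ h₀ h₁
  rw [hw] at hn4
  -- `δ₀` is regular
  have hδ : PReg M 2 δ₀ := by
    by_contra h
    have := h₀ δ₀ h
    omega
  have hδc : PReg M 2 (canon (Nat.card F : ℤ) M δ₀) := by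
    obtain ⟨j, hj⟩ := H614.GLn.RSt.sameZ_canon (Q := (Nat.card F : ℤ)) (M := M) δ₀
    exact H76.GLB.pReg_of_same ⟨j, hj⟩ hδ
  have hPO : ∀ {n' : ℕ} (t : LabZ (Nat.card F : ℤ) M m n'), OnlyOn (Nat.card F : ℤ) M δ₀ t.t → POnly M 2 t.t := by
    intro n' t ht c hc
    by_contra h
    obtain ⟨j, hj⟩ := ht c (Nat.pos_of_ne_zero h)
    exact hc (H76.GLB.pReg_of_same ⟨j, hj⟩ hδ)
  obtain ⟨y₁, ⟨t₁, ht₁, rfl⟩, y₂, ⟨t₂, ht₂, rfl⟩, hpair⟩ := pairing_ne_zero (p := 2) Nat.prime_two hQ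
    (v := (perZ (Nat.card F : ℤ) M δ₀, canon (Nat.card F : ℤ) M δ₀)) hδc 2 2 (H117.GLn.SchP_mem_PGen hQ t₀.t h₀) hC3 _ _ hC2b hC2b
  have hn2 : perZ (Nat.card F : ℤ) M δ₀ * 2 ≤ n := by omega
  obtain ⟨χ₁, hχ₁, -⟩ := (H577.GLB.Real.isLab_bij hctx (m := m) (hn2.trans hn) (hn2.trans hm)).2 t₁
  obtain ⟨χ₂, hχ₂, -⟩ := (H577.GLB.Real.isLab_bij hctx (m := m) (hn2.trans hn) (hn2.trans hm)).2 t₂
  obtain ⟨D₁, D₂, hD₁, hD₂, f, hf⟩ := exists_defect_two hctx hpF h𝔐 (by omega) hn hχ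
    (H117.GLn.SchP_mem_PGen hQ t₀.t h₀) hχ₁ hχ₂ hpair D hD
  have hb : ∀ t : LabZ (Nat.card F : ℤ) M m (perZ (Nat.card F : ℤ) M δ₀ * 2), OnlyOn (Nat.card F : ℤ) M δ₀ t.t → H577.GLB.Std.bsz (t.t δ₀) = 2 := by
    intro t ht
    have h2 := hdeg (hn2.trans hm) t (hPO t ht) ht
    exact (Nat.eq_of_mul_eq_mul_left hper h2).symm
  have hc₁ := hE1 _ (hn2.trans hn) (hn2.trans hm) t₁ (hPO t₁ ht₁) ht₁ (hb t₁ ht₁) χ₁ hχ₁ D₁ hD₁
  have hc₂ := hE1 _ (hn2.trans hn) (hn2.trans hm) t₂ (hPO t₂ ht₂) ht₂ (hb t₂ ht₂) χ₂ hχ₂ D₂ hD₂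
  have hp₁ : IsPGroup 2 (D₁ ⊓ slS F (perZ (Nat.card F : ℤ) M δ₀ * 2) : Subgroup (GL (Fin (perZ (Nat.card F : ℤ) M δ₀ * 2)) F)) :=
    (isPGroup_of_isDefectGroup hD₁).to_le inf_le_left
  have hp₂ : IsPGroup 2 (D₂ ⊓ slS F (perZ (Nat.card F : ℤ) M δ₀ * 2) : Subgroup (GL (Fin (perZ (Nat.card F : ℤ) M δ₀ * 2)) F)) :=
    (isPGroup_of_isDefectGroup hD₂).to_le inf_le_left
  exact four_le_of_noncyclic hp₁ hp₂ hc₁ hc₂ f hf hs

end sec

end Cfsg.Agent.H501.GLn
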