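import Cfsg.Agent.H501.GLn.FourC
import Cfsg.Agent.H111.GLB.E1b
import Cfsg.Agent.H120.GLB.Ctx
import Cfsg.Agent.H614.GLn.Cusp

/-!
# S4536 E2, with the labels of the linear characters (L1, L2) as the only hypotheses
-/

set_option autoImplicit false
set_option linter.unusedSectionVars false

open Polynomial Cfsg
open scoped ComplexConjugate TensorProduct MatrixGroups

namespace Cfsg.Agent.H501.GLn

open Cfsg.Agent.H614.GLn Cfsg.Agent.H577.GLB.Std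
open Cfsg.Agent.H577.GLB.Real (PGen frm coP PhiF cfE Om IsLab slS OnlyOn linH)
open Cfsg.Agent.H624.Sl (dch)

universe u

variable {F : Type u} [Field F] [Finite F] {K : Type u} [Field K] [Algebra F K] {θ : K →*₀ ℂ} {N M : ℕ} [NeZero M]
  {𝔐 : Ideal AlgInt}

/-- **E2** (`four_le_rank`), hypotheses: L1 and L2. -/
theorem four_le_rank_of_lin (hctx : Ctx F θ N M) (hpF : 2 ≠ ringChar F) (h𝔐 : IsPModular 2 𝔐) {m n : ℕ} (hn : n ≤ N)
    (hm : n ≤ m) (t₀ : LabZ (Nat.card F) M m n) (h₀ : POnly M 2 t₀.t) (δ₀ : ZMod M)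
    (h₁ : OnlyOn (Nat.card F) M δ₀ t₀.t) (hw : H577.GLB.Std.bsz (t₀.t δ₀) = 4) (χ : IrrCharacter (GL (Fin n) F))
    (hχ : IsLab θ M m n χ t₀)
    (hlin : ∀ n' : ℕ, 0 < n' → ∀ l : GL (Fin n') F →* ℂˣ, (∀ x ∈ slS F n', l x = 1) →
      ∃ a : ZMod M, TorZ (Nat.card F) M 1 a ∧ l = dch n' (linH F θ M a))
    (hord : ∀ n' : ℕ, 0 < n' → ∀ a : ZMod M, TorZ (Nat.card F) M 1 a → orderOf (dch n' (linH F θ M a)) = addOrderOf a)
    (D : Subgroup (GL (Fin n) F))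
    (hD : IsDefectGroup 2 𝔐 (blockOf 𝔐 (χ : GL (Fin n) F → ℂ)) D) (s : ℕ)
    (hs : SectionalPRankLE 2 s (D ⊓ slS F n : Subgroup (GL (Fin n) F))) : 4 ≤ s := by
  have hQ := H421.GLn.isUnit_q hctx
  have hQ2 : ((Nat.card F : ℤ) : ZMod 2) = 1 := by
    have := Fintype.ofFinite F
    have h2 := FiniteField.odd_card_of_char_ne_two (F := F) hpF.symm
    rw [Nat.card_eq_fintype_card, Int.cast_natCast, ← ZMod.natCast_mod, h2, Nat.cast_one]
  have hdeg := (H76.GLB.card_family_one Nat.prime_two hQ hQ2 hm t₀ h₀ δ₀ h₁).2.1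
  rw [hw] at hdeg
  have hper : 0 < perZ (Nat.card F : ℤ) M δ₀ := H614.GLn.RSt.perZ_pos hQ δ₀
  have h4m : 4 ≤ m := by
    have : 1 * 4 ≤ perZ (Nat.card F : ℤ) M δ₀ * 4 := Nat.mul_le_mul_right _ hper
    omega
  refine four_le_rank_of hctx hpF h𝔐 hn hm t₀ h₀ δ₀ h₁ hw χ hχ D hD s hs ?_ ?_ ?_
  · rw [H120.GLB.Ctx.cfE_one hQ (H623.GLn.PGen_le (H117.GLn.SchP_mem_PGen hQ t₀.t h₀)), ← pow_add]
    have h2 := H614.GLn.RSt.form_SchP_X_pow_ne_zero hQ t₀ h₁ (by rw [hw]; exact h4m)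
    rw [hw] at h2
    exact h2
  · have h2 := H614.GLn.RSt.X_pow_mem_span (m := m) hQ δ₀ (w := 2) (by omega)
    refine Submodule.span_mono ?_ h2
    rintro x ⟨t, ht, -, hx⟩
    exact ⟨t, ht, hx⟩
  · intro n' hn' hm' t ht ht' hw' χ' hχ' D' hD'
    have h2 := (H76.GLB.card_family_one Nat.prime_two hQ hQ2 hm' t ht δ₀ ht').2.1
    rw [hw'] at h2
    have h3 : 0 < n' := by omega
    exact H111.GLB.not_isCyclic_two_of_lin hctx hpF h𝔐 hn' hm' t ht δ₀ ht' hw' χ' hχ' (hlin n' h3) (hord n' h3) D' hD'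

end Cfsg.Agent.H501.GLn
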