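import Cfsg.Agent.H501.GLn.FourD
import Cfsg.Agent.H583.GLn.Lin

/-!
# S4536 E2: the exact statement
-/

set_option autoImplicit false
set_option linter.unusedSectionVars false

open Polynomial Cfsg
open scoped ComplexConjugate TensorProduct MatrixGroups

namespace Cfsg.Agent.H501.GLn

open Cfsg.Agent.H614.GLn Cfsg.Agent.H577.GLB.Std
open Cfsg.Agent.H577.GLB.Real (IsLab slS OnlyOn)

universe u

variable {F : Type u} [Field F] [Finite F] {K : Type u} [Field K] [Algebra F K] {θ : K →*₀ ℂ} {N M : ℕ} [NeZero M]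
  {𝔐 : Ideal AlgInt}

/-- **E2**: `w = 4` -/
theorem four_le_rank (hctx : Ctx F θ N M) (hpF : 2 ≠ ringChar F) (h𝔐 : IsPModular 2 𝔐) {m n : ℕ} (hn : n ≤ N)
    (hm : n ≤ m) (t₀ : LabZ (Nat.card F) M m n) (h₀ : POnly M 2 t₀.t) (δ₀ : ZMod M)
    (h₁ : OnlyOn (Nat.card F) M δ₀ t₀.t) (hw : H577.GLB.Std.bsz (t₀.t δ₀) = 4) (χ : IrrCharacter (GL (Fin n) F))
    (hχ : IsLab θ M m n χ t₀) (D : Subgroup (GL (Fin n) F))
    (hD : IsDefectGroup 2 𝔐 (blockOf 𝔐 (χ : GL (Fin n) F → ℂ)) D) (s : ℕ)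
    (hs : SectionalPRankLE 2 s (D ⊓ slS F n : Subgroup (GL (Fin n) F))) : 4 ≤ s := by
  have hN : 1 ≤ N := by
    have h2 : 0 < n := by
      rw [Nat.pos_iff_ne_zero]
      rintro rfl
      have h3 := Finset.single_le_sum (f := fun c : ZMod M => H577.GLB.Std.bsz (t₀.t c)) (fun _ _ => Nat.zero_le _)
        (Finset.mem_univ δ₀)
      rw [t₀.sum, hw] at h3
      omega
    omega
  refine four_le_rank_of_lin hctx hpF h𝔐 hn hm t₀ h₀ δ₀ h₁ hw χ hχ ?_ ?_ D hD s hs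
  · intro n' hn' l hl
    obtain ⟨a, ha, -⟩ := H583.GLn.exists_label_of_lin hctx hN hn' l hl
    exact ⟨a, ha⟩
  · intro n' hn' a ha
    exact H583.GLn.orderOf_dch hctx hN hn' a ha

end Cfsg.Agent.H501.GLn
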